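import Cfsg.Agent.Cod.Gen

/-! A Sylow 2-subgroup of the double cover of the alternating group of degree eleven. -/

set_option autoImplicit false
set_option maxRecDepth 1000000
set_option maxHeartbeats 0
set_option Elab.async false

namespace CF.NC

open CF.Comp CF.Cod

noncomputable def RL : List (List Nat) := [[(nat_lit 1), (nat_lit 1)],
  [(nat_lit 3), (nat_lit 3)],
  [(nat_lit 5), (nat_lit 5)],
  [(nat_lit 1), (nat_lit 3), (nat_lit 1), (nat_lit 3)],
  [(nat_lit 1), (nat_lit 3), (nat_lit 5), (nat_lit 1), (nat_lit 3), (nat_lit 5), (nat_lit 1), (nat_lit 5), (nat_lit 3), (nat_lit 5), (nat_lit 3), (nat_lit 5), (nat_lit 1), (nat_lit 5)],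
  [(nat_lit 1), (nat_lit 3), (nat_lit 5), (nat_lit 1), (nat_lit 3), (nat_lit 5), (nat_lit 3), (nat_lit 5), (nat_lit 1), (nat_lit 5), (nat_lit 1), (nat_lit 5), (nat_lit 3), (nat_lit 5)],
  [(nat_lit 7), (nat_lit 7)],
  [(nat_lit 7), (nat_lit 5), (nat_lit 7), (nat_lit 5)],
  [(nat_lit 7), (nat_lit 1), (nat_lit 7), (nat_lit 1)],
  [(nat_lit 7), (nat_lit 3), (nat_lit 7), (nat_lit 3), (nat_lit 1)]]
noncomputable def TL_c0 : BT (Bx Nat) := (BT.node (nat_lit 2) (BT.node (nat_lit 1) (BT.leaf (Bx.mk (nat_lit 0x5256443c4c41394837504a342822303127212d251f2a29332f232c1d26322e202b1c241e19141b1811160e1a131017120f15090c08060d0b070a050403020100))) (BT.leaf (Bx.mk (nat_lit 0x7d6d7f99916f895e77978e67865c71617a6a7e98906e885d74968d64855b7060837868726280544e463e4759533f4d364358513b4b3540385557453d4f423a49)))) (BT.node (nat_lit 3) (BT.leaf (Bx.mk (nat_lit 0xcd9ea59bbbcfc8b8acb6d1c0aea1d2c7a8b3ccb7abc3a2afc49abddb9da9b2a09fbea39cbca67c6c7666928a93957b6b8b7565828f947969877363815f8c845a)))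 (BT.leaf (Bx.mk (nat_lit 0xfefffcfdfbfaf9f6f5f8f7f3f4f2f1f0efeeedeceaebe4e8e7e6e3e9e5e1e2e0dedfddd6a4d4c6c1c9dcd5dad3b1b5d0bacebfadcbcad7b9b0d9c5a7aac2d8b4)))))
noncomputable def TL_c1 : BT (Bx Nat) := (BT.node (nat_lit 2) (BT.node (nat_lit 1) (BT.leaf (Bx.mk (nat_lit 0x6e6a682164621f60335d5b1d371b565250184c4a164828294414411322233c113910340e32191a2e0c2b0b262408201e061c091715030d12040f02070a050001))) (BT.leaf (Bx.mk (nat_lit 0xbd477c7dac46a8457677c043b742bc40a93f6c6db63eb33d6667ae3bab3aa638a2a0369c359a98968331545590308d2f4e4f882d852c802a7e7a782774722570)))) (BT.node (nat_lit 3) (BT.leaf (Bx.mk (nat_lit 0xd98e7f7192e4d095736bebde6989eae98c65e77b63e26f79e161a4a5865f825e97df915cdd5adb599f58b8c7c8bb9d53d2be51afd1cfb24dcca34bc457a1c349))) (BT.leaf (Bx.mk (nat_lit 0xf7f5f4f3f2f1f0f6fff8fefdfcfbfaf9c1d5dad3b5b1b0ceadcbc5bacaaaa7d89eb49bc699edbfe0d6d7eec2ec8f8bb98ae8c987e6e3cd9394dce58481d4ef75)))))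
noncomputable def TL_c3 : BT (Bx Nat) := (BT.node (nat_lit 2) (BT.node (nat_lit 1) (BT.leaf (Bx.mk (nat_lit 0x6f6d2168671f6261325e5c1c1b37575518504f164a4914264528421211203d223a0f0e34330c172f192c0a29082423061e1d041a031507130910010d0b000502))) (BT.leaf (Bx.mk (nat_lit 0x47bd467aab7cc4444374a776b64140bc3fa93e6ab76cb43c3b64af66ac3938a6a536a0359c9b99973183305291548e2e2d4c894e862b2a807f7d277877257271)))) (BT.node (nat_lit 3) (BT.leaf (Bx.mk (nat_lit 0xb88d7e70d6ef8abf6b73da69de88e393658cc6637b826e8475605fa285a4e25d9681905b5add59db589fd9d8b0d7539dc251beaec5b94db2cd4ba3a856aa9e48))) (BT.leaf (Bx.mk (nat_lit 0xfcf4f5fff8ece8fbf3f2fdfef7f6d3cebacbebfaedcac8f9dcd5d1c1b1a1c0c7c3b39ae798b5959492bbe6d2f1d4e5cfd0f087c9eeeacce9e0ad8b79df8fe4e1)))))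
noncomputable def TL_c5 : BT (Bx Nat) := (BT.node (nat_lit 2) (BT.node (nat_lit 1) (BT.leaf (Bx.mk (nat_lit 0x23226b692065631e5f1d1c5a59581a195351174d4b154746134312403f3e103b0f3836350d31300b2d0a2a09272507211f051b041816140211010e0c00080603))) (BT.leaf (Bx.mk (nat_lit 0xc9c8c7c645c544c3c2c142bf41beb3afbbbab9b83db53cb2b1b03aad39aaa8a737a3a19e9d343332959493922f8f2e8c8b8a2c872b84828129287b7926757324)))) (BT.node (nat_lit 3) (BT.leaf (Bx.mk (nat_lit 0x7472eb866f6e6d6cee806aec7168676670e864dde662e5616090e4cd5ee35de1e05c5bde8d89dcd0dad757565554d5a652d39b504f4e9ace4cbccb4aca4948b6))) (BT.leaf (Bx.mk (nat_lit 0xefedeae9e7e2dfd9d8d6d4d1cfccc4c0ffb7feb4bdfdfcaefbaba9a5a2faa09ff99cac99d297f8f796f691f58edbf498f388a4f285837f7e7d7c7af1787776f0)))))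
noncomputable def TL_c7 : BT (Bx Nat) := (BT.node (nat_lit 2) (BT.node (nat_lit 1) (BT.leaf (Bx.mk (nat_lit 0x38216c6a1f66643f1d5f5833341c2a185452164e4c312413461243291e103e0f3b2337320e150b300a2d1a0828260622201b05031917021401110d000c090704))) (BT.leaf (Bx.mk (nat_lit 0xbc707845c644c57d7242c141bf77bd7ea660683db83cb56d623ab039ad67a96e36a4a29f96595a358048502f922e8f554a2c8a2b874f835640277c7a25767447)))) (BT.node (nat_lit 3) (BT.leaf (Bx.mk (nat_lit 0x73c2717f90a7b26bd99569edebb9aa65c8e963dce7b161e5ba6fa05ecd5de3a55ce0d797db98dd9a9c5bb6818c53d6bb51d4d293844dd0cf4bc9cc8b49ca9457))) (BT.leaf (Bx.mk (nat_lit 0xf0ecfae8e6fdf7eef9d5d3f1cecbf4ffc0f8b4feb3e2aefcabfba8e1a1eae49ed8da99ac9bdeb7df9d91f68ef58dc48988f3a385f28286afc37b79d1c7be75ef)))))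
noncomputable def TL_w : BT (Bx Nat) := (BT.node (nat_lit 2) (BT.node (nat_lit 1) (BT.leaf (Bx.mk (nat_lit 0x53751000075351000035351000015351000075151000035151000015151000053151000073531000053531000051531000031531000003537000001537000005375000007535000003535000001535000007515000003515000001515000005315000003753000007353000005353000007153000005153000003153000003751000007351000005351000007151000005151000003151000003531000001531000000537000000375000000735000000535000000715000000515000000315000000753000000353000000153000000751000000351000000151000000531000000037000000075000000035000000015000000073000000053000000071000000051000000031000000007000000005000000003000000001000000000))) (BT.leaf (Bx.mk (nat_lit 0x353753000153753000375353000735353000535353000715353000515353000315353000375153000735153000535153000715153000515153000315153000353153000153153000353751000153751000375351000735351000535351000715351000515351000315351000375151000735151000535151000715151000515151000315151000353151000153151000753531000353531000153531000351531000151531000531531000053537000051537000035375000015375000037535000073535000053535000071535000051535000031535000037515000073515000053515000071515000051515000031515000035315000015315000053753000075353000035353000015353000075153000035153000015153000053153))))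 (BT.node (nat_lit 3) (BT.leaf (Bx.mk (nat_lit 0x7515153005315153007353153003153153005353751005153751005375351007535351003535351001535351007515351003515351001515351005315351005375151007535151003535151001535151007515151003515151001515151005315151007353151005353151005153151003153151003753531007353531005353531007153531005153531003153531007351531005351531005151531003151531003531531001531531000353537000153537000351537000151537000535375000515375000537535000753535000353535000153535000751535000351535000151535000531535000537515000753515000353515000153515000751515000351515000151515000531515000735315000535315000515315000315315))) (BT.leaf (Bx.mk (nat_lit 0x535153751753515351515375151751535151751515151535153531515351531053535375053515375075353535075351535051537515075153515075151515053515353051535153035153751053535351073515351053515351071515351015375151071535151051535151071515151051515151075353151053753531075153531035153531053153531075351531015351531053151531007353537005353537003153537005351537003535375003515375003753535007353535005353535007351535005351535007151535001537515007353515007153515005153515003751515007151515005151515007535315005353753005153753005375353007535353007515353003515353005315353005375153007535153001535153)))))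
noncomputable def TL_cols : List (BT (Bx Nat)) := [TL_c0, TL_c1, TL_c1, TL_c3, TL_c3, TL_c5, TL_c5, TL_c7, TL_c7]
noncomputable def TL_ch (x j : Nat) : Bx Nat := chk TL_cols x j
noncomputable def TL_wc (_ j : Nat) : Bx Nat := TL_w.get j
noncomputable def TL : CT := ⟨(nat_lit 256), (nat_lit 8), (nat_lit 255), TL_ch, (nat_lit 36), (nat_lit 0xfffffffff), TL_wc, (nat_lit 510)⟩
theorem TL_ok : TL.ok = true := by decide +kernel
theorem TL_rel : lall TL.relOK RL = true := by decide +kernel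
noncomputable def eL_c0 : BT (Bx Nat) := (BT.node (nat_lit 1) (BT.leaf (Bx.mk (nat_lit 0x0))) (BT.leaf (Bx.mk (nat_lit 0x0))))
noncomputable def eL_c1 : BT (Bx Nat) := (BT.node (nat_lit 1) (BT.leaf (Bx.mk (nat_lit 0x825ece4bd6897a288f3811e5023c5897bb1300511f2e23fd847f488fd625f92d3ee6b7d408c2811ace4b6e046a692b6e1165a4ac68467e92ae721992231a095dd08cbd9557022a1c46cf089fd916ac4270c963e909a611dcc23021f70e08d7d3db134bbec961cdcedd2521c2232c95d6928bbadd2e232b4944308e7b25c907b3a044a38895211bb44b9b6542d3282a11ab27bc3843b392dad911f24203483941293711cb42346494b51074e10d9823b3046ff086ad6515e0baf04756b48de10cd823a0c43e70864c11c7241c2dc3d4b4e2d20c542296c85358887d24c18ba0f482fb9098f05c12224b482ea88dee10b782373842d308a0e10b3022e60964492c9711794427b842a608d3c117fc214b0458782d2c11a1822cf8427608cdca949c21330462c9058b1145223134825408bee1091421f6c83f252add248f422a7482350877b20f1e0b074922488b8d2087822f78420c08aae1081421b6c837782b7d247fe0ad3481f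50867b20d1e0abf491e782acd20778229f841ce08a3c1143c20df044ef0836f0537e0a67c14bc0884e106542156c82b78291d2463e0a3b48185084fb20a1e0a27491778286d205b822078415f827fc10f7821e7841460875c10e7c209bc138f826fc10d7821a7841160865c10c7c2083c130c9034f04bde0973480f40838e1039e095f0429e0851e1033821370425f0817f0493420a6c81578245d242be090b480a50823b2049e08f749097823ad2023820d78407f8233a10356406fc117e920df0459a40330413e0825e101382087040ff0807f043b4202b040c60816e10096403bc109e9205f0421a400f04047820bc100dc2007c10100000))) (BT.leaf (Bx.mk (nat_lit 0x288f8))))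
noncomputable def eL_c2 : BT (Bx Nat) := (BT.node (nat_lit 1) (BT.leaf (Bx.mk (nat_lit 0x72deb17bd98b802bcf9b51db333a5057e20af4715e6e2bf9857fac4f88bdef6a351ec67f0abbab59982bb2857de96ee82d96e2b26057d18addb15ace2b49856140ab2e154562b05456450ac4b9968c2a6d227470a996796dc2a5b854af0a937797996b9f0569d0af2d2dab05b9b0568696d1615e3c2a21c56548aef715d7113360b7533ce12795ce2a33853d5b6e0a7920ef397187128ab9b991d229ff8538b0ad7f05e14f22d9e6070a6ca14e8a2b6f853550adfb6d1331392454a70a66c611a22b1f85321bc7ca1507229be6342da876e14c3c29830551dbc86d2d4be0b8f852f38a97c450573a47852e70a5b72dbdc296bc16e70a5982d41e0b6bc16cd44b1f05b1c2952854f48ac3e14a542afec557c44c691575c293a8559f82cee149942a920554c8a57b8d5762a7f8524f0a48a2d7dc291f053d90aacd2cfbe0b178522f0a44c14eb42aa34b3bdceb7e1485c2907c15ef0a40a2d55c28ff0535f82b8d2cdbe0ad7851ef0a3cc14cbe0ac34b33f82ade1475c28e7c153f82a6e146fe0a87851b7829df0539e0a6bc14c70a32a2d09c28c70529f8292d2cabe0a3f8517f0a2ec149be0a2b4b27f8287e1459c28afc140f8280f04fdc28a3c13cf8278e144de09cfc13978270f04ddc288bc134f8268e1441e098fc13148a33f04bfe0977850ef0a1ca2c71e0963c12b70a19f04a3e0943850bf824bf0495c28570513f8246d2c53e090f8509f0a12c1443e08fb4b11f823be1421c283fc11af8234e141b82863c1186961af045bc282fc11570a09f044be08938503f821ff043dc2817c10df0a04f042d82823c10a6960af0423c280bc1077820ce1403e081bc10180000)))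 (BT.leaf (Bx.mk (nat_lit 0x28afd))))
noncomputable def eL_c3 : BT (Bx Nat) := (BT.node (nat_lit 1) (BT.leaf (Bx.mk (nat_lit 0xd29ddc33af4a75694e8e19c7c3383866d70cd9d29afa53578669694d0d299bc33178660f8300e1971833ff865ad8cbef05fd833f78657e0cfce1959a52ab8653694a3f05f7c32874a50782fae193ad42b7864d30cd3e1931e0be7c17c39497c19efc324b067b70c8f729b9e0bd5ca4ce0cf4e1912a52970679f0c86d2909c3203863ff0c7ed28fba51efc17970c79e18f1a51dfc178e9475e18e7853b36843f0c70e18dfc31bb4a36f82efc4903a51afc176eba72e18d3c31a34a33eaa71f05d3a5195466f782e7e18c78339b863170c61d4d23e0b95066770c5fc19c9c317bc17160ce1e18bbc3173c16feac8ed4115e0b758668f82db619b1c3163862bf0c56d28abe0b5b0653e9453f05a9832738628f0c50d289f8326fc167e944dc197be0b338625e0ccbe1895c3126c65bf82caf0593e0b230663f0c46c198dc3117c162782c3c1985c310f066070c42f057f832d30658782bcf0577e0aeb065cf0c3ec196dc30f7c159f82b2c1963c30ef065770c3af0557e0aa7c15469438f0549e0a8bc14ff829ee186bc30d38619f8296f052be0a530649f0c30c1921c30bfc146f828cc1917c30b7064470c2cf050be0a0fc14170c2ad2853e09f3c13d69427f04ede09d38612f0c24d2847e09b3c13569421f04cde0993860fe0c60e183dc3077c12df825af04b3c306f4a0d78254f04a5a5063c1277824ce182de09230623f0c14c1889c304fc120f8240c187fc3047061e70c10f0473e08dfc11b70c0ef0465830c7860660c2ee1817e08af4a0578228f044da5023c11178220e180de08734a02f8219f042f830578601e0c12e1805e083f0606f0c01f0413e081fc10200000)))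 (BT.leaf (Bx.mk (nat_lit 0x70cf0))))
noncomputable def eL_c4 : BT (Bx Nat) := (BT.node (nat_lit 1) (BT.leaf (Bx.mk (nat_lit 0xe1ddb03bef8774f0ee7935fce6be20d77b0efae1dadc3b52077970ecfe1d9926bd5c78040ec171df3c3ad7c17ff0eb4a39c7c3abfc17ef0eacf05f9c3aa70d7170ea291dd763b97874fb8ed971db7c3a690756c189c835bf03ae2207040e9ee1d25e0bdf8747f82f6e1d1d47317874570e89f05e8a3a938743782f3e1d0703a1e8d5861ac4e1cf9c39ea476958ec8c357fc39da617870e74b1d87c39cacc4040e91a355186acf8736498da91d2dc39abc177782ecb1d7586aaf873348ec9f05d5c39914d6ef82e8b1d65c398bc17348ebbb30e183a87872fb1ccee1cbde0b934c5370e5df05c3273624c4c38edc93933e0b7a074dc0e9d81cb946ade8d4161a8de1ca9e0b5e4d5e70e52f05abe0b4ec74a61a85e1c9de0b47c16870e4c93595e0b36c74670e4af059723a56cc2c50ebda1ce3839e78723782c7e1c8be0b1b4c3f60e73e1c87e0b0b8721782c0d30f1e0aface3fd0ea7a1cc3839a7871f782b9e1c7be0adb4c3760e63e1c77e0ac7871d782aed30d1e0aaace37f0e37f054be0a8fc15049c9791cb54696e8d1b50e81a1c9383947871878293e1c5fe0a434c2b60e4be1c5be0a2f871678288d30a1e0a12ce2be1a41e1c51e09f7c13df0e26f04efe09d6c72461a39e1c45e09b7c135f0e20f04cfe0996c72070e1ef04c123966cc1a50e35a1c3b868af870cf8255f04a7c385fc127f824db1c6583897870a78247e1c27e09134c1560e1fe1c23e08ff87087823cd3049e08e2ce19e1a0fc1c2dc3833c118f0e0bf045da606f8704f8229f044fc381fc111f8221b1c398381b87027821af0431c380fc10af0e02f0425a603b8700f820df0415e0823c10280000)))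 (BT.leaf (Bx.mk (nat_lit 0x41af1))))
noncomputable def eL_p : BT (Bx Nat) := (BT.node (nat_lit 1) (BT.leaf (Bx.mk (nat_lit 0x976892eb0e5d224b9c4971872e00e1b41c364386b090d4121a41c33c4866090c50e1821c2ec285c070b51216a1c2d04859030af1215e1c2b04856070a91214c1c2884851050a10e13e2427c184e86e9a11d341ba64274c06e9609d2a13a4c274908e920dd1e23a3c374708e8c05d1423a24474486e8809d0c23a18374188e800dcfe1b9f8373e08e7a11cf4139e4373c06e7611cec0b9d0473986e7211ce2139c0373786e6e0dcd8239b0273602e6a11cd4139a8173486e680dccc23998273302e6411cc813990173186e6211cc41b984373084e6009cbe2397c372f08e5e0dcbc13974472e86e5c0dcb81396c272d82c5a098b40b164262c82c580d8ae1b158362a08c54098a80b148462904c52058a21b140362708c4e0989c0b130462604c4c058961b128462506c490d89213120262402c470988c23118362288c450d88a13110262188c430d88423108362104c41098820b100262002c3f0987c230f8361e88c3d0d87a130f0261d88c3b0d874230e8361d04c39098720b0dc461b84c370586c130d8161a86a340d4661a8c8251902a3109460228c0351788a2f0d45e128b8251688a2d0d458228b0351604a2b094560a8a8351408a28094500a898451304a260544a1a890351108a22094440a880451004a200543e1a878450f06a1d0d43a12070240e0281b0d03222064240c828171102e1205c140b0681509028220503409888130d026120482408888110d0202204034080480f0901e0983833068460c10c181982c43058660b08c122182423048260710c0e1181c13030640508808210102202024031080619008420106402084022080431008420104000000000)))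 (BT.leaf (Bx.mk (nat_lit 0x4bc03))))
noncomputable def eL_e : BT Nat := BT.leaf (nat_lit 0)
noncomputable def eL_cols : List (BT (Bx Nat)) := [eL_c0, eL_c1, eL_c2, eL_c3, eL_c4]
noncomputable def eL_ch (x j : Nat) : Bx Nat := chunkG eL_cols (nat_lit 2) x j
noncomputable def eL_L (x : Nat) : Bx (Nat → Nat) := lookG eL_ch (nat_lit 8) (nat_lit 255) (nat_lit 19) (nat_lit 524287) x
noncomputable def eL_pc (_ j : Nat) : Bx Nat := eL_p.get j
noncomputable def eL_pb : Bx (Nat → Nat) := lookG eL_pc (nat_lit 8) (nat_lit 255) (nat_lit 19) (nat_lit 524287) (nat_lit 0)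
noncomputable def eL_rots : BT CW := (BT.node (nat_lit 23) (BT.node (nat_lit 11) (BT.node (nat_lit 5) (BT.node (nat_lit 2) (BT.node (nat_lit 1) (BT.leaf ⟨[], (nat_lit 1000000), (nat_lit 0), (nat_lit 0), (nat_lit 0)⟩) (BT.leaf ⟨[], (nat_lit 1000000), (nat_lit 0), (nat_lit 0), (nat_lit 1)⟩)) (BT.node (nat_lit 3) (BT.leaf ⟨[], (nat_lit 1000000), (nat_lit 0), (nat_lit 0), (nat_lit 2)⟩) (BT.node (nat_lit 4) (BT.leaf ⟨[(nat_lit 1), (nat_lit 1)], (nat_lit 0), (nat_lit 0), (nat_lit 0), (nat_lit 3)⟩) (BT.leaf ⟨[(nat_lit 2), (nat_lit 2)], (nat_lit 1), (nat_lit 0), (nat_lit 0), (nat_lit 3)⟩)))) (BT.node (nat_lit 8) (BT.node (nat_lit 6) (BT.leaf ⟨[(nat_lit 3), (nat_lit 3)], (nat_lit 2), (nat_lit 0), (nat_lit 0), (nat_lit 3)⟩) (BT.node (nat_lit 7) (BT.leaf ⟨[(nat_lit 4), (nat_lit 4)], (nat_lit 6), (nat_lit 0), (nat_lit 0), (nat_lit 3)⟩) (BT.leaf ⟨[(nat_lit 1), (nat_lit 2), (nat_lit 1), (nat_lit 2)], (nat_lit 3), (nat_lit 0), (nat_lit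 0), (nat_lit 3)⟩))) (BT.node (nat_lit 9) (BT.leaf ⟨[(nat_lit 1), (nat_lit 4), (nat_lit 1), (nat_lit 4)], (nat_lit 8), (nat_lit 1), (nat_lit 0), (nat_lit 3)⟩) (BT.node (nat_lit 10) (BT.leaf ⟨[(nat_lit 3), (nat_lit 4), (nat_lit 3), (nat_lit 4)], (nat_lit 7), (nat_lit 1), (nat_lit 0), (nat_lit 3)⟩) (BT.leaf ⟨[(nat_lit 2), (nat_lit 4), (nat_lit 2), (nat_lit 1), (nat_lit 4)], (nat_lit 9), (nat_lit 1), (nat_lit 0), (nat_lit 3)⟩))))) (BT.node (nat_lit 17) (BT.node (nat_lit 14) (BT.node (nat_lit 12) (BT.leaf ⟨[(nat_lit 4), (nat_lit 2), (nat_lit 4), (nat_lit 1), (nat_lit 2)], (nat_lit 23), (nat_lit 2), (nat_lit 0), (nat_lit 3)⟩) (BT.node (nat_lit 13) (BT.leaf ⟨[(nat_lit 4), (nat_lit 3), (nat_lit 4), (nat_lit 3)], (nat_lit 7), (nat_lit 0), (nat_lit 0), (nat_lit 3)⟩) (BT.leaf ⟨[(nat_lit 4), (nat_lit 1), (nat_lit 4), (nat_lit 1)], (nat_lit 8), (nat_lit 0), (nat_lit 0), (nat_lit 3)⟩))) (BT.node (nat_lit 15) (BT.leaf ⟨[(nat_lit 1), (nat_lit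 2), (nat_lit 4), (nat_lit 2), (nat_lit 4)], (nat_lit 23), (nat_lit 0), (nat_lit 0), (nat_lit 3)⟩) (BT.node (nat_lit 16) (BT.leaf ⟨[(nat_lit 3), (nat_lit 2), (nat_lit 3), (nat_lit 2), (nat_lit 3), (nat_lit 1), (nat_lit 3), (nat_lit 1), (nat_lit 2), (nat_lit 3), (nat_lit 1), (nat_lit 2), (nat_lit 3), (nat_lit 1)], (nat_lit 4), (nat_lit 7), (nat_lit 0), (nat_lit 3)⟩) (BT.leaf ⟨[(nat_lit 2), (nat_lit 3), (nat_lit 1), (nat_lit 3), (nat_lit 1), (nat_lit 2), (nat_lit 3), (nat_lit 1), (nat_lit 2), (nat_lit 3), (nat_lit 1), (nat_lit 3), (nat_lit 2), (nat_lit 3)], (nat_lit 4), (nat_lit 10), (nat_lit 0), (nat_lit 3)⟩)))) (BT.node (nat_lit 20) (BT.node (nat_lit 18) (BT.leaf ⟨[(nat_lit 3), (nat_lit 1), (nat_lit 2), (nat_lit 3), (nat_lit 1), (nat_lit 2), (nat_lit 3), (nat_lit 1), (nat_lit 3), (nat_lit 2), (nat_lit 3), (nat_lit 2), (nat_lit 3), (nat_lit 1)], (nat_lit 4), (nat_lit 13), (nat_lit 0), (nat_lit 3)⟩) (BT.node (nat_lit 19) (BT.leaf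 ⟨[(nat_lit 3), (nat_lit 1), (nat_lit 3), (nat_lit 2), (nat_lit 3), (nat_lit 2), (nat_lit 3), (nat_lit 1), (nat_lit 3), (nat_lit 1), (nat_lit 2), (nat_lit 3), (nat_lit 1), (nat_lit 2)], (nat_lit 4), (nat_lit 5), (nat_lit 0), (nat_lit 3)⟩) (BT.leaf ⟨[(nat_lit 2), (nat_lit 3), (nat_lit 2), (nat_lit 3), (nat_lit 1), (nat_lit 3), (nat_lit 2), (nat_lit 1), (nat_lit 3), (nat_lit 2), (nat_lit 1), (nat_lit 3), (nat_lit 1), (nat_lit 3)], (nat_lit 18), (nat_lit 3), (nat_lit 0), (nat_lit 3)⟩))) (BT.node (nat_lit 21) (BT.leaf ⟨[(nat_lit 3), (nat_lit 1), (nat_lit 3), (nat_lit 2), (nat_lit 1), (nat_lit 3), (nat_lit 2), (nat_lit 1), (nat_lit 3), (nat_lit 1), (nat_lit 3), (nat_lit 2), (nat_lit 3), (nat_lit 2)], (nat_lit 18), (nat_lit 6), (nat_lit 0), (nat_lit 3)⟩) (BT.node (nat_lit 22) (BT.leaf ⟨[(nat_lit 3), (nat_lit 1), (nat_lit 3), (nat_lit 1), (nat_lit 3), (nat_lit 2), (nat_lit 3), (nat_lit 1), (nat_lit 2), (nat_lit 3), (nat_lit 1),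 (nat_lit 2), (nat_lit 3), (nat_lit 2)], (nat_lit 5), (nat_lit 7), (nat_lit 0), (nat_lit 3)⟩) (BT.leaf ⟨[(nat_lit 1), (nat_lit 3), (nat_lit 2), (nat_lit 3), (nat_lit 1), (nat_lit 2), (nat_lit 3), (nat_lit 1), (nat_lit 2), (nat_lit 3), (nat_lit 2), (nat_lit 3), (nat_lit 1), (nat_lit 3)], (nat_lit 5), (nat_lit 10), (nat_lit 0), (nat_lit 3)⟩)))))) (BT.node (nat_lit 35) (BT.node (nat_lit 29) (BT.node (nat_lit 26) (BT.node (nat_lit 24) (BT.leaf ⟨[(nat_lit 2), (nat_lit 3), (nat_lit 1), (nat_lit 2), (nat_lit 3), (nat_lit 2), (nat_lit 3), (nat_lit 1), (nat_lit 3), (nat_lit 1), (nat_lit 3), (nat_lit 2), (nat_lit 3), (nat_lit 1)], (nat_lit 5), (nat_lit 1), (nat_lit 0), (nat_lit 3)⟩) (BT.node (nat_lit 25) (BT.leaf ⟨[(nat_lit 1), (nat_lit 2), (nat_lit 3), (nat_lit 2), (nat_lit 3), (nat_lit 1), (nat_lit 3), (nat_lit 1), (nat_lit 3), (nat_lit 2), (nat_lit 3), (nat_lit 1), (nat_lit 2), (nat_lit 3)], (nat_lit 5), (nat_lit 3), (nat_lit 0),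 (nat_lit 3)⟩) (BT.leaf ⟨[(nat_lit 1), (nat_lit 3), (nat_lit 2), (nat_lit 1), (nat_lit 3), (nat_lit 2), (nat_lit 3), (nat_lit 1), (nat_lit 3), (nat_lit 1), (nat_lit 3), (nat_lit 2), (nat_lit 3), (nat_lit 2)], (nat_lit 19), (nat_lit 10), (nat_lit 0), (nat_lit 3)⟩))) (BT.node (nat_lit 27) (BT.leaf ⟨[(nat_lit 2), (nat_lit 1), (nat_lit 3), (nat_lit 2), (nat_lit 3), (nat_lit 1), (nat_lit 3), (nat_lit 1), (nat_lit 3), (nat_lit 2), (nat_lit 3), (nat_lit 2), (nat_lit 1), (nat_lit 3)], (nat_lit 19), (nat_lit 12), (nat_lit 0), (nat_lit 3)⟩) (BT.node (nat_lit 28) (BT.leaf ⟨[(nat_lit 1), (nat_lit 3), (nat_lit 1), (nat_lit 3), (nat_lit 2), (nat_lit 3), (nat_lit 2), (nat_lit 1), (nat_lit 3), (nat_lit 2), (nat_lit 1), (nat_lit 3), (nat_lit 2), (nat_lit 3)], (nat_lit 19), (nat_lit 3), (nat_lit 0), (nat_lit 3)⟩) (BT.leaf ⟨[(nat_lit 3), (nat_lit 2), (nat_lit 3), (nat_lit 2), (nat_lit 1), (nat_lit 3), (nat_lit 2), (nat_lit 1), (nat_lit 3),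 (nat_lit 2), (nat_lit 3), (nat_lit 1), (nat_lit 3), (nat_lit 1)], (nat_lit 19), (nat_lit 6), (nat_lit 0), (nat_lit 3)⟩)))) (BT.node (nat_lit 32) (BT.node (nat_lit 30) (BT.leaf ⟨[(nat_lit 2), (nat_lit 1), (nat_lit 2), (nat_lit 1)], (nat_lit 3), (nat_lit 1), (nat_lit 0), (nat_lit 3)⟩) (BT.node (nat_lit 31) (BT.leaf ⟨[(nat_lit 1), (nat_lit 4), (nat_lit 2), (nat_lit 4), (nat_lit 2)], (nat_lit 9), (nat_lit 4), (nat_lit 0), (nat_lit 3)⟩) (BT.leaf ⟨[(nat_lit 4), (nat_lit 1), (nat_lit 2), (nat_lit 4), (nat_lit 2)], (nat_lit 23), (nat_lit 4), (nat_lit 0), (nat_lit 3)⟩))) (BT.node (nat_lit 33) (BT.leaf ⟨[(nat_lit 4), (nat_lit 2), (nat_lit 4), (nat_lit 2), (nat_lit 1)], (nat_lit 9), (nat_lit 0), (nat_lit 0), (nat_lit 3)⟩) (BT.node (nat_lit 34) (BT.leaf ⟨[(nat_lit 2), (nat_lit 1), (nat_lit 4), (nat_lit 2), (nat_lit 4)], (nat_lit 9), (nat_lit 3), (nat_lit 0), (nat_lit 3)⟩) (BT.leaf ⟨[(nat_lit 2), (nat_lit 3), (nat_lit 1), (nat_lit 2),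 (nat_lit 3), (nat_lit 1), (nat_lit 3), (nat_lit 2), (nat_lit 3), (nat_lit 2), (nat_lit 3), (nat_lit 1), (nat_lit 3), (nat_lit 1)], (nat_lit 4), (nat_lit 1), (nat_lit 0), (nat_lit 3)⟩))))) (BT.node (nat_lit 41) (BT.node (nat_lit 38) (BT.node (nat_lit 36) (BT.leaf ⟨[(nat_lit 1), (nat_lit 2), (nat_lit 3), (nat_lit 1), (nat_lit 3), (nat_lit 2), (nat_lit 3), (nat_lit 2), (nat_lit 3), (nat_lit 1), (nat_lit 3), (nat_lit 1), (nat_lit 2), (nat_lit 3)], (nat_lit 4), (nat_lit 3), (nat_lit 0), (nat_lit 3)⟩) (BT.node (nat_lit 37) (BT.leaf ⟨[(nat_lit 1), (nat_lit 3), (nat_lit 2), (nat_lit 1), (nat_lit 3), (nat_lit 1), (nat_lit 3), (nat_lit 2), (nat_lit 3), (nat_lit 2), (nat_lit 3), (nat_lit 1), (nat_lit 3), (nat_lit 2)], (nat_lit 18), (nat_lit 10), (nat_lit 0), (nat_lit 3)⟩) (BT.leaf ⟨[(nat_lit 2), (nat_lit 1), (nat_lit 3), (nat_lit 1), (nat_lit 3), (nat_lit 2), (nat_lit 3), (nat_lit 2), (nat_lit 3), (nat_lit 1), (nat_lit 3), (nat_lit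 2), (nat_lit 1), (nat_lit 3)], (nat_lit 18), (nat_lit 12), (nat_lit 0), (nat_lit 3)⟩))) (BT.node (nat_lit 39) (BT.leaf ⟨[(nat_lit 2), (nat_lit 3), (nat_lit 1), (nat_lit 2), (nat_lit 3), (nat_lit 1), (nat_lit 2), (nat_lit 3), (nat_lit 2), (nat_lit 3), (nat_lit 1), (nat_lit 3), (nat_lit 1), (nat_lit 3)], (nat_lit 5), (nat_lit 12), (nat_lit 0), (nat_lit 3)⟩) (BT.node (nat_lit 40) (BT.leaf ⟨[(nat_lit 3), (nat_lit 2), (nat_lit 3), (nat_lit 1), (nat_lit 3), (nat_lit 1), (nat_lit 3), (nat_lit 2), (nat_lit 3), (nat_lit 1), (nat_lit 2), (nat_lit 3), (nat_lit 1), (nat_lit 2)], (nat_lit 5), (nat_lit 5), (nat_lit 0), (nat_lit 3)⟩) (BT.leaf ⟨[(nat_lit 1), (nat_lit 3), (nat_lit 1), (nat_lit 2), (nat_lit 3), (nat_lit 1), (nat_lit 2), (nat_lit 3), (nat_lit 1), (nat_lit 3), (nat_lit 2), (nat_lit 3), (nat_lit 2), (nat_lit 3)], (nat_lit 4), (nat_lit 12), (nat_lit 0), (nat_lit 3)⟩)))) (BT.node (nat_lit 44) (BT.node (nat_lit 42) (BT.leaf ⟨[(nat_lit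 1), (nat_lit 3), (nat_lit 2), (nat_lit 3), (nat_lit 2), (nat_lit 3), (nat_lit 1), (nat_lit 3), (nat_lit 1), (nat_lit 2), (nat_lit 3), (nat_lit 1), (nat_lit 2), (nat_lit 3)], (nat_lit 4), (nat_lit 6), (nat_lit 0), (nat_lit 3)⟩) (BT.node (nat_lit 43) (BT.leaf ⟨[(nat_lit 1), (nat_lit 3), (nat_lit 2), (nat_lit 3), (nat_lit 2), (nat_lit 1), (nat_lit 3), (nat_lit 2), (nat_lit 1), (nat_lit 3), (nat_lit 2), (nat_lit 3), (nat_lit 1), (nat_lit 3)], (nat_lit 19), (nat_lit 5), (nat_lit 0), (nat_lit 3)⟩) (BT.leaf ⟨[(nat_lit 2), (nat_lit 3), (nat_lit 1), (nat_lit 3), (nat_lit 2), (nat_lit 3), (nat_lit 2), (nat_lit 3), (nat_lit 1), (nat_lit 3), (nat_lit 1), (nat_lit 2), (nat_lit 3), (nat_lit 1)], (nat_lit 4), (nat_lit 4), (nat_lit 0), (nat_lit 3)⟩))) (BT.node (nat_lit 45) (BT.leaf ⟨[(nat_lit 2), (nat_lit 3), (nat_lit 1), (nat_lit 3), (nat_lit 1), (nat_lit 3), (nat_lit 2), (nat_lit 3), (nat_lit 1), (nat_lit 2), (nat_lit 3), (nat_lit 1),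 (nat_lit 2), (nat_lit 3)], (nat_lit 5), (nat_lit 6), (nat_lit 0), (nat_lit 3)⟩) (BT.node (nat_lit 46) (BT.leaf ⟨[(nat_lit 1), (nat_lit 2), (nat_lit 3), (nat_lit 1), (nat_lit 2), (nat_lit 3), (nat_lit 2), (nat_lit 3), (nat_lit 1), (nat_lit 3), (nat_lit 1), (nat_lit 3), (nat_lit 2), (nat_lit 3)], (nat_lit 5), (nat_lit 0), (nat_lit 0), (nat_lit 3)⟩) (BT.leaf ⟨[(nat_lit 2), (nat_lit 4), (nat_lit 1), (nat_lit 2), (nat_lit 4)], (nat_lit 23), (nat_lit 3), (nat_lit 0), (nat_lit 3)⟩)))))))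
noncomputable def eL_hcs : List CW := []
noncomputable def eL_H (x j : Nat) : Bx (Nat → Nat → Nat) := mkH eL_L eL_pb.1 eL_e.get (lmap CW.w eL_hcs) (nat_lit 256) (nat_lit 257) (nat_lit 5) (nat_lit 512) (nat_lit 32768) (nat_lit 32767) x (eL_rots.get j)
noncomputable def eL_F (x b : Nat) : Bool := blkOK eL_H eL_ch (nat_lit 257) (nat_lit 512) (nat_lit 64) (nat_lit 8) (nat_lit 255) (nat_lit 19) (nat_lit 524287) x b

theorem eL_k0_0 : allFrom (eL_F (nat_lit 0)) (nat_lit 0) (nat_lit 8) = true := by decide +kernel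
theorem eL_k1_0 : allFrom (eL_F (nat_lit 1)) (nat_lit 0) (nat_lit 8) = true := by decide +kernel
theorem eL_k2_0 : allFrom (eL_F (nat_lit 2)) (nat_lit 0) (nat_lit 8) = true := by decide +kernel
theorem eL_k3_0 : allFrom (eL_F (nat_lit 3)) (nat_lit 0) (nat_lit 8) = true := by decide +kernel
theorem eL_k4_0 : allFrom (eL_F (nat_lit 4)) (nat_lit 0) (nat_lit 8) = true := by decide +kernel

theorem eL_all : Cov eL_F 8 5 0 := by
  have h := Cov.zero eL_F 8
  have h := h.blk (b := 8) eL_k0_0 rfl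
  have h := h.next (y := 1) rfl rfl
  have h := h.blk (b := 8) eL_k1_0 rfl
  have h := h.next (y := 2) rfl rfl
  have h := h.blk (b := 8) eL_k2_0 rfl
  have h := h.next (y := 3) rfl rfl
  have h := h.blk (b := 8) eL_k3_0 rfl
  have h := h.next (y := 4) rfl rfl
  have h := h.blk (b := 8) eL_k4_0 rfl
  have h := h.next (y := 5) rfl rfl
  exact h

theorem eL : Enum RL [] (gensW 4) 256 :=
  ⟨eL_cols, eL_ch, eL_L, eL_H, eL_pb.1, eL_e.get, [(nat_lit 0), (nat_lit 1), (nat_lit 3), (nat_lit 5), (nat_lit 7)], (nat_lit 15), (nat_lit 4), eL_rots, eL_hcs,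
    (nat_lit 257), (nat_lit 5), (nat_lit 512), (nat_lit 64), (nat_lit 32768), (nat_lit 32767), (nat_lit 8), (nat_lit 255), (nat_lit 19), (nat_lit 524287), (nat_lit 2), (nat_lit 8),
    fun _ _ => rfl, fun _ => rfl, fun _ _ => rfl, by decide +kernel, eL_all.1⟩

theorem pL : TL.Pres RL (gensW 4) := ⟨CT.ok_spec TL_ok, lall_iff.1 TL_rel, by decide +kernel,
  by decide +kernel, by decide +kernel, eL.bound (ug_rels _) (bound_nil _)⟩

instance instTL : TL.Grp := pL.grp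

end CF.NC
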