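/-
Uniqueness of the normal four-group, and conjugates of the central involution in its centralizer.
-/
import Cfsg.Agent.NC.B
set_option autoImplicit false
set_option linter.unusedSectionVars false

namespace CF.NC
open Subgroup Cfsg CF.BG CF.Sig CF.GW CF.Ab2 CF.MW
open CF.DD (In)
open scoped commutatorElement

variable {G : Type*} [Group G] [Finite G]
variable {A B C D E K L M N P Q R S T U V W X Y Z : Subgroup G} {a b c d e g h k p r s t u v w x y z : G}

namespace N0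
variable (H : N0 S z u)
include H
theorem mz : x ∈ zpowers z ↔ x = 1 ∨ x = z := H.f.l.mem_zpowers
theorem nz0 : zpowers z ⊴ S := ⟨zpowers_le.2 H.hz, le_norm_of_cj_le fun s hs => by rw [cj_zpowers, H.cz hs]⟩
theorem zle : zpowers z ≤ V4 z u := le_sup_left
theorem sw (ha : a ∈ S) (hb : b ∈ S) (e : a * b * a⁻¹ = z * b) : b * a * b⁻¹ = z * a := by
  rw [← H.zzx (b * a * b⁻¹), ← mul_assoc z (b * a), ← mul_assoc z b, ← e]; group
theorem cm_iff (ha : a ∈ S) : ⁅a, b⁆ ∈ zpowers z ↔ a * b = b * a ∨ a * b * a⁻¹ = z * b := by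
  rw [H.mz, commutatorElement_eq_one_iff_mul_comm, commutatorElement_def, mul_inv_eq_iff_eq_mul]
theorem uY : u ∈ YY S (zpowers z) := (mem_YY H.nz0).2 ⟨H.hu, H.uu ▸ one_mem _, fun s hs =>
  (H.cm_iff H.hu).2 ((H.uc s hs).imp Eq.symm (H.sw hs H.hu))⟩
theorem two (ha : a ∈ S) (e : a * x * a⁻¹ = z * x) (f : b * x * b⁻¹ = z * x) : a * b * x = x * (a * b) :=
  mul_of_conj (conj_conj f (by rw [conj_two (H.cz ha) e, H.zzx]))
theorem sq4 (hb : b ∈ S) (ia : a * a = 1) (ib : b * b = 1) (e : a * b * a⁻¹ = z * b) : a * b * (a * b) = z := by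
  rw [inv_eq_of_sq ia] at e
  rw [← mul_assoc, e, mul_assoc, ib, mul_one]
end N0

namespace N2
variable (H : N2 S z u)
include H
theorem zf : ZF S := MW.zf H.n H.hS fun g hg w hw c i => by
  rcases H.cen hw (mem_cent.1 c) i with rfl | rfl
  · group
  refine (H.cen (conj_mem_of_norm hg hw) (fun s hs => (comm_cj ?_).symm) (IC.conj_sq i g)).resolve_left
    (H.f.l.conj g).ne_one
  exact H.zc _ (conj_mem_of_norm' hg hs)
theorem uniq (hx : x ∈ S) (xu : x * u = u * x) (xU : x ∉ V4 z u) (hw : w ∈ S) (i : w * w = 1)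
    (cw : ∀ s ∈ S, s * w = w * s ∨ s * w * s⁻¹ = z * w) : w ∈ V4 z u := by
  by_contra m
  have H' : N0 S z w := ⟨H.hS, H.ne, ⟨H.f.l, .mk' (fun e => m (e ▸ one_mem _)) i, (H.zc w hw).symm,
    fun e => m (e ▸ left_mem_V4 _ _)⟩, H.hz, hw, H.zc, cw⟩
  have wu : w * u * w⁻¹ = z * u := (H.uc w hw).resolve_left fun e =>
    m (H.ivm hw i e fun s hs => H.zle (((mem_YY H.nz0).1 H'.uY).2.2 s hs))
  have uw := H.sw hw H.hu wu
  have nC : AA S u w ⊴ S := by
    have := H.nP.inf H'.nP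
    rwa [inf_assoc, ← inf_assoc (𝐂₁ u), inf_comm (𝐂₁ u), inf_assoc, ← inf_assoc S S, inf_idem, ← inf_assoc] at this
  have Cz : ∀ c ∈ AA S u w, c ∈ V4 z u → c ∈ zpowers z := fun c hc k => by
    rcases H.mU.1 k with rfl | rfl | rfl | rfl
    exacts [one_mem _, mem_zpowers _, (H'.not_both (mA.1 hc).2.2 uw).elim,
      (H'.not_both (mA.1 hc).2.2 (by rw [H.f.comm]; exact conj_conj (conj_of_mul (H.zc w hw).symm) uw)).elim]
  have decP : ∀ s ∈ S, s * u = u * s → s ∈ AA S u w ∨ s * u ∈ AA S u w := fun s hs e => (cw s hs).imp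
    (fun f => mA.2 ⟨hs, e, f⟩) fun f => mA.2 ⟨mul_mem hs H.hu, comm_mul e rfl, H.two hs f uw⟩
  have dec : ∀ s ∈ S, ∃ c ∈ AA S u w, s = c ∨ s = c * u ∨ s = c * w ∨ s = c * (u * w) := fun s hs => by
    rcases H.uc s hs with e | e
    · rcases decP s hs e with f | f
      exacts [⟨s, f, .inl rfl⟩, ⟨_, f, .inr (.inl (by rw [mul_assoc, H.uu, mul_one]))⟩]
    · rcases decP _ (mul_mem hs hw) (H.two hs e wu) with f | f
      exacts [⟨_, f, .inr (.inr (.inl (by rw [mul_assoc, i, mul_one])))⟩,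
        ⟨_, f, .inr (.inr (.inr (by rw [mul_assoc, H.uux, mul_assoc, i, mul_one])))⟩]
  obtain ⟨o, ho, o1, oY⟩ := exists_lift H.pi nC H.nz0 (zpowers_le.2 (mA.2 ⟨H.hz, H.f.comm, (H.zc w hw).symm⟩))
    fun l => xU ((decP x hx xu).elim (fun f => H.zle (l f)) fun f =>
      (mul_mem_cancel_right (right_mem_V4 z u)).1 (H.zle (l f)))
  obtain ⟨o2, o3, o4⟩ := (mem_YY H.nz0).1 oY
  obtain ⟨-, ou, ow⟩ := mA.1 ho
  have oo : o * o = z := (H.mz.1 o3).resolve_left fun e => o1 (Cz o ho (H.ivm o2 e ou fun s hs => H.zle (o4 s hs)))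
  have oc : ∀ s ∈ S, s * o = o * s ∨ s * o * s⁻¹ = z * o := fun s hs =>
    ((H.cm_iff o2).1 (o4 s hs)).imp Eq.symm (H.sw o2 hs)
  have lY : V4 z u ⊔ zpowers o ≤ YY S (zpowers z) :=
    sup_le (sup_le (le_YY H.nz0) (zpowers_le.2 H.uY)) (zpowers_le.2 oY)
  obtain ⟨W, l, M⟩ := exists_m4 (A := V4 z u ⊔ zpowers o) H.pi (normal_of_comm (H.zle.trans le_sup_left)
    (lY.trans (YY_le H.nz0)) fun x hx => ((mem_YY H.nz0).1 (lY hx)).2.2)
    (H.f.abel.sup (abel_zpowers o) (cent_symm (zpowers_le.2 (H.cU o2 ou)))) fun x hx => by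
      rcases H.mz.1 ((mem_YY H.nz0).1 (lY hx)).2.1 with e | e <;> rw [e]
      exacts [one_mul 1, H.zz]
  have iW : ∀ x ∈ W, x * x = 1 → x ∈ V4 z u := fun x hx e =>
    H.ne.mem_of_abel M.n M.a (le_sup_left.trans l) (fun _ => H.f.sq) H.f.card hx e
  have oW : o ∈ W := l (mem_sup_right (mem_zpowers o))
  have key : ∀ c ∈ AA S u w, c * c * (c * c) = 1 → c * c ∈ zpowers z := fun c hc e => by
    obtain ⟨c1, c2, -⟩ := mA.1 (mul_mem hc hc)
    have co : c * c * o = o * (c * c) := (oc c (mA.1 hc).1).elim (fun f => comm_mul f f) fun f => H.two (mA.1 hc).1 f f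
    refine Cz _ (mul_mem hc hc) (iW _ (M.m _ c1 (mem_cent.2 fun y hy => ?_) (by rw [e, one_mul])) e)
    have yu := M.a.mul_comm hy (l (mem_sup_left (right_mem_V4 z u)))
    have m : y * y ∈ zpowers z := Cz _ ((decP y (M.n.le hy) yu).elim (fun f => mul_mem f f) fun f => by
      have := mul_mem f f
      rwa [mul_assoc, ← mul_assoc u, ← yu, mul_assoc, H.uu, mul_one] at this) (iW _ (mul_mem hy hy) (M.e y hy))
    rcases H.mz.1 m with f | f
    · exact (H.cUv c1 c2 (iW y hy f)).symm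
    · have := comm_mul (H.cUv c1 c2 (iW _ (mul_mem hy (inv_mem oW)) (by
        rw [mul_assoc, ← mul_assoc o⁻¹, comm_inv (M.a.mul_comm oW hy), mul_assoc, ← mul_assoc, f, ← oo]; group))).symm
        co.symm
      rwa [inv_mul_cancel_right] at this
  have q4 := H.sq4 hw H.uu i uw
  have sq : ∀ c ∈ AA S u w, ∀ d, c * d = d * c → c * d * (c * d) = c * c * (d * d) := fun c _ d e => by
    rw [mul_assoc, ← mul_assoc d, ← e]; group
  refine H.zf.isol H.hz (mem_cent.2 H.zc) H.f.l (fun t ht it => ?_) fun s hs e => ?_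
  · obtain ⟨c, hc, f⟩ := dec t ht
    obtain ⟨c1, c2, c3⟩ := mA.1 hc
    have huw := mul_mem H.hu hw
    have cuw := (comm_mul c2.symm c3.symm)
    rcases f with rfl | rfl | rfl | rfl
    · exact ⟨_, huw, mem_cent1.2 cuw, q4⟩
    · rcases oc c c1 with f | f
      · exact ⟨o, o2, mem_cent1.2 (comm_mul f ou.symm).symm, oo⟩
      · exact ⟨o * w, mul_mem o2 hw, mem_cent1.2 (mul_of_conj (by
          rw [conj_two (conj_conj (conj_of_mul ou.symm) f) (conj_conj uw (conj_two (H.cz c1) (conj_of_mul c3))),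
            mul_assoc, H.zx o2, H.zzx])).symm, by rw [sq o ho w ow, oo, i, mul_one]⟩
    · rcases oc c c1 with f | f
      · exact ⟨o, o2, mem_cent1.2 (comm_mul f ow.symm).symm, oo⟩
      · exact ⟨o * u, mul_mem o2 H.hu, mem_cent1.2 (mul_of_conj (by
          rw [conj_two (conj_conj (conj_of_mul ow.symm) f) (conj_conj wu (conj_two (H.cz c1) (conj_of_mul c2))),
            mul_assoc, H.zx o2, H.zzx])).symm, by rw [sq o ho u ou, oo, H.uu, mul_one]⟩
    · exact ⟨_, huw, mem_cent1.2 (comm_mul cuw.symm rfl).symm, q4⟩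
  · obtain ⟨c, hc, f⟩ := dec s hs
    obtain ⟨c1, c2, c3⟩ := mA.1 hc
    have : s * s = c * c ∨ s * s = c * c * z := by
      rcases f with rfl | rfl | rfl | rfl
      exacts [.inl rfl, .inl (by rw [sq c hc u c2, H.uu, mul_one]), .inl (by rw [sq c hc w c3, i, mul_one]),
        .inr (by rw [sq c hc _ (comm_mul c2.symm c3.symm).symm, q4])]
    have zC : zpowers z ≤ 𝐂 S := zpowers_le.2 (mem_cent.2 H.zc)
    rcases this with f | f <;> rw [f] at e ⊢
    · exact zC (key c hc e)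
    · rw [mul_assoc, ← H.zx (mul_mem c1 c1), H.zz, mul_one] at e
      exact zC (mul_mem (key c hc e) (mem_zpowers z))
theorem exz (uq : ∀ w ∈ S, w * w = 1 → (∀ s ∈ S, s * w = w * s ∨ s * w * s⁻¹ = z * w) → w ∈ V4 z u) :
    ∃ y ∈ S, y * u = u * y ∧ IsConj y z ∧ y ≠ z := by
  by_contra hn
  have out : ∀ y, YZ S z y → y * u * y⁻¹ = z * u := fun y h =>
    (H.uc y h.1).resolve_left fun e => hn ⟨y, h.1, e, h.2⟩
  obtain ⟨y, hy, cy, n⟩ := H.zstar
  have iy := iv_of_isc cy H.f.l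
  have f : FP z y := ⟨H.f.l, iy, (H.zc y hy).symm, n.symm⟩
  have yu := out y ⟨hy, cy, n⟩
  have uy := H.sw hy H.hu yu
  obtain ⟨φ, h1, h2, h3⟩ := H.ext cy
  have hz' := h3 z H.hz f.comm
  have zu := out _ ⟨hz', (h1.conj z).symm, fun e => n (φ.injective (h2.trans e.symm))⟩
  obtain ⟨v, hv⟩ := φ.surjective u
  have vy : v * y * v⁻¹ = y := φ.injective (by rw [map_mul, map_mul, map_inv, hv, h2, conj_of_mul H.f.comm.symm])
  have vz : v * z * v⁻¹ = y * z := φ.injective (by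
    rw [map_mul, map_mul, map_inv, hv, H.sw hz' H.hu zu, map_mul, h2])
  have nz : z * v ≠ v * z := fun e => iy.ne_one (mul_eq_right.1 (vz.symm.trans (conj_of_mul e.symm)))
  have dec : ∀ p ∈ S, p * y = y * p → p * v = v * p ∨ p * z * v = v * (p * z) := fun p hp e =>
    (H.uc _ (h3 p hp e)).imp (fun f => φ.injective (by rw [map_mul, map_mul, hv, f])) fun f =>
      φ.injective (by rw [map_mul, map_mul, map_mul, map_mul, hv, H.two (h3 p hp e) f zu])
  have mN : ∀ s ∈ S, s ∈ 𝐍 (V4 z y) ↔ s * y = y * s ∨ s * y * s⁻¹ = z * y := fun s hs => by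
    refine ⟨fun k => ?_, fun k => mem_norm_of_cj_le ?_⟩
    · rcases f.mem.1 (conj_mem_of_norm k (right_mem_V4 z y)) with e | e | e | e
      exacts [absurd e (iy.conj s).ne_one, absurd ((conj_inv_of e).symm.trans (by
        rw [mul_assoc, ← H.zc s hs, inv_mul_cancel_left])) n, .inl (mul_of_conj e), .inr e]
    · rw [cj_V4, H.cz hs, V4_le]
      exact ⟨left_mem_V4 _ _, k.elim (fun e => by rw [conj_of_mul e]; exact right_mem_V4 _ _) fun e =>
        e ▸ mul_mem (left_mem_V4 _ _) (right_mem_V4 _ _)⟩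
  obtain ⟨x, hx, xn, xN, -⟩ := PG.exists_step (T := S ⊓ 𝐍 (V4 z y)) H.pi (inf_lt_left.2 fun l =>
    n (H.zU (uq y hy iy.sq fun s hs => (mN s hs).1 (l hs)) cy))
  have h4 := conj_mem_of_norm xn ⟨hy, (mN y hy).2 (.inl rfl)⟩
  have Y1 : YZ S z (x * y * x⁻¹) := ⟨h4.1, (isc rfl).symm.trans cy, fun e => n ((conj_inv_of e).symm.trans (by
    rw [mul_assoc, ← H.zc x hx, inv_mul_cancel_left]))⟩
  have xy : x * y * x⁻¹ ≠ y ∧ x * y * x⁻¹ ≠ z * y := not_or.1 fun e =>
    xN ⟨hx, (mN x hx).2 (e.imp_left mul_of_conj)⟩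
  have i1 := (iy.conj x).sq
  generalize x * y * x⁻¹ = w at h4 Y1 xy i1
  have pu := H.two hy yu (out w Y1)
  have hp := mul_mem hy Y1.1
  obtain ⟨p, rfl⟩ : ∃ p, w = y * p := ⟨y * w, by rw [← mul_assoc, iy.sq, one_mul]⟩
  rw [← mul_assoc, iy.sq, one_mul] at pu hp
  have key : ∀ r ∈ S, r * u = u * r → r * v = v * r → IsConj (z * y * r) z → r = 1 := fun r hr ru rv c => by
    have q : v * (z * y * r) * v⁻¹ = z * r := by
      rw [conj_two (conj_two vz vy) (conj_of_mul rv.symm), ← f.comm, mul_assoc z, iy.sq, mul_one]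
    exact by_contra fun r1 => hn ⟨z * r, mul_mem H.hz hr, comm_mul H.f.comm ru, (isc q).symm.trans c,
      fun e => r1 (mul_eq_left.1 e)⟩
  rcases (mN _ Y1.1).1 h4.2 with e | e
  · rw [mul_assoc, mul_right_inj] at e
    rcases dec p hp e with g | g
    · exact xy.1 (by rw [key p hp pu g ((isc (conj_two uy (conj_of_mul pu.symm))).symm.trans Y1.2.1), mul_one])
    · have := key _ (mul_mem hp H.hz) (comm_mul pu H.f.comm) g (by
        rw [H.zc p hp, mul_assoc, H.zx hy, H.zzx]; exact Y1.2.1)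
      exact xy.2 (by rw [eq_inv_of_mul_eq_one_left this, H.zi, f.comm])
  · have e1 : p * y * p⁻¹ = z * y := by
      rw [conj_conj rfl rfl] at e
      rw [← conj_inv_of e, f.comm, inv_mul_cancel_left, f.comm]
    have e2 := H.two hp e1 uy
    have q : p * u * (p * u) = z := by
      rw [mul_assoc, ← mul_assoc u, ← pu, mul_assoc, H.uu, mul_one]
      rw [mul_assoc, ← mul_assoc p, mul_of_conj e1, mul_assoc, mul_assoc, H.zx hy, ← mul_assoc y, iy.sq, one_mul] at i1
      rw [eq_inv_of_mul_eq_one_right i1, H.zi]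
    rcases dec _ (mul_mem hp H.hu) e2 with g | g <;> refine nz ?_
    · rw [← q]; exact comm_mul g g
    · have := comm_mul g g
      rwa [mul_assoc (p * u), ← H.zc _ (mul_mem (mul_mem hp H.hu) H.hz), mul_assoc (p * u) z, H.zz, mul_one, q] at this
end N2

end CF.NC
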