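/-
Construction of the basic setting; disconnected Sylow two-subgroups.
-/
import Cfsg.Agent.NC.F
import Cfsg.Agent.PG.Basic
import Cfsg.Agent.S0502
set_option autoImplicit false
set_option linter.unusedSectionVars false

namespace CF.NC
open Subgroup Cfsg CF.BG CF.Sig CF.GW CF.Ab2 CF.MW
open scoped commutatorElement

variable {G : Type*} [Group G] [Finite G]
variable {A B D E K L M N P Q R S T U V W X Y Z : Subgroup G} {a b c d e g h k p r s t u v w x y z : G}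

theorem ne_of (k : P2 S) (h : ∀ E, E ⊴ S → (∀ x ∈ E, x * x = 1) → ♯E ≠ 8) : NE S := fun E n e => by
  by_contra! c
  have kE := k.le n.le
  obtain ⟨Q, l, nQ, q⟩ := k.exists_normal n (r := 3) (by
    rw [kE.card_eq] at c
    exact (Nat.pow_lt_pow_iff_right one_lt_two).1 (show 2 ^ 2 < _ from c))
  exact h Q nQ (fun x hx => e x (l hx)) (by rw [(kE.le l).card_eq, q]; rfl)

theorem ne_of_conn (k : P2 S) (c : ¬ IsFourConnected S) : NE S := ne_of k fun E n e q => c (by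
  have : (E.subgroupOf S).Normal := n.normal
  have e' : ∀ x ∈ E.subgroupOf S, x ^ 2 = 1 := fun x hx => Subtype.ext (by
    rw [pow_two]; exact e x hx)
  refine Cfsg.Agent.S0502.result k.isPGroup (E.subgroupOf S) ⟨⟨fun x y => Subtype.ext (Subtype.ext ?_)⟩⟩ e' ?_
  · exact (ZD.abel_of_sq e).mul_comm x.2 y.2
  · rw [Nat.card_congr (subgroupOfEquivOfLe n.le).toEquiv]; exact q.ge)

theorem vx (f : FP a b) (ha : a ∈ S) (hb : b ∈ S) : Elem 2 2 (V4 a b) S :=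
  (Elem.of_le (H := V4 a b) ⟨le_rfl, (klein_iff.1 f.klein).ab, (klein_iff.1 f.klein).log⟩ (V4_le.2 ⟨ha, hb⟩))

theorem exN0 (hS : Syl 2 S ⊤) (ne : NE S) (r : 2 < pRank 2 S) :
    ∃ z u, N0 S z u ∧ ∃ x ∈ S, x * u = u * x ∧ x ∉ V4 z u := by
  have h1 : S ≠ ⊥ := by
    obtain ⟨E, hE⟩ := exists_elem (n := 3) r
    exact ne_bot_mono hE.ne_bot hE.le
  obtain ⟨z, hz, i⟩ := exists_iv_of_two (hS.pi.le inf_le_left) (hS.pi.nil.inf_center_ne_bot (NormalIn.refl S) h1)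
  obtain ⟨u, hu, j, ne', k⟩ := PG.exists_v hS.pi r ⟨i.ne_one, i.sq⟩ hz.1 hz.2.2
  have zc : ∀ s ∈ S, s * z = z * s := mem_cent.1 hz.2.2
  have H : N0 S z u := ⟨hS, ne, ⟨i, .mk' j.ne j.sq, (zc u hu).symm, ne'.symm⟩, hz.1, hu, zc,
    fun s hs => (k s hs).imp mul_of_conj fun e => e.trans (zc u hu)⟩
  obtain ⟨E, hE⟩ := exists_elem (p := 2) (n := 3) (Elem.rank_cent (vx H.f H.hz H.hu) H.nU.norm r)
  obtain ⟨x, hx, m⟩ := exists_not_mem (A := V4 z u) (B := E) (by rw [H.f.card, hE.card]; decide)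
  exact ⟨z, u, H, x, (hE.le hx).1, (mem_cent.1 (hE.le hx).2 u (right_mem_V4 z u)).symm, m⟩

theorem cent_V4 (h1 : a * c = c * a) (h2 : a * d = d * a) (h3 : b * c = c * b) (h4 : b * d = d * b) :
    V4 a b ≤ 𝐂 (V4 c d) := by
  rw [V4_le, cent_sup, cent_zpowers, cent_zpowers]
  exact ⟨⟨mem_cent1.2 h1, mem_cent1.2 h2⟩, mem_cent1.2 h3, mem_cent1.2 h4⟩

theorem N0.iso (H : N0 S z u) (c : ¬ IsFourConnected S) : ∃ t ∈ S, t * t = 1 ∧ t * u * t⁻¹ = z * u ∧
    ∀ x ∈ S, x * u = u * x → x * t = t * x → x * x = 1 → x = 1 ∨ x = z := by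
  by_contra! n
  have U := Elem.vx (vx H.f H.hz H.hu) le_rfl
  have key : ∀ A, Vx 2 2 S A → Conn 2 2 S A (V4 z u) := fun A a => by
    by_cases l : A ≤ 𝐂 (V4 z u)
    · exact a.conn U l
    obtain ⟨t, ht, m⟩ := SetLike.not_le_iff_exists.1 l
    have hs := a.le ht
    have tt : t * t = 1 := (pow_two t).symm.trans (a.ab.pow t ht)
    have e := (H.uc t hs).resolve_left fun e => m (H.cU hs e)
    obtain ⟨x, hx, xu, xt, xx, x1, xz⟩ := n t hs tt e
    have ft : FP z t := ⟨H.f.l, .mk' (fun k => m (k ▸ one_mem _)) tt, (H.zc t hs).symm,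
      fun k => H.not_both (k ▸ H.f.comm) e⟩
    have fx : FP z x := ⟨H.f.l, .mk' x1 xx, (H.zc x hx).symm, xz.symm⟩
    have v1 := Elem.vx (vx ft H.hz hs) le_rfl
    have v2 := Elem.vx (vx fx H.hz hx) le_rfl
    refine ((v1.conn a ?_).symm.trans (v1.conn v2 (cent_V4 rfl fx.comm ft.comm.symm xt.symm))).trans
      (v2.conn U (cent_V4 rfl H.f.comm fx.comm.symm xu))
    exact V4_le.2 ⟨mem_cent.2 fun s hs => H.zc s (a.le hs), a.ab.abel ht⟩
  exact c (fourConnected_subgroup_iff.2 fun A B a b => (key A a).trans (key B b).symm)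

theorem N0.fused' (H : N0 S z u) (n : NS (⊤ : Subgroup G)) (hx : x ∈ S) (xu : x * u = u * x) (m : x ∉ V4 z u)
    (c : ¬ IsFourConnected S) : IsConj u z ∧ IsConj (z * u) z := by
  obtain ⟨t, ht, tt, tu, i⟩ := H.iso c
  by_cases k : IsConj u z
  · exact ⟨k, (isc tu).symm.trans k⟩
  · exact (NB.false ⟨⟨H, n, k, t, ht, tu⟩, ht, tt, tu, i⟩ hx xu m).elim

theorem N0.idx2 (H : N0 S z u) (hw : w ∈ V4 z u) : (𝐂₁ w ⊓ S).relIndex S ≤ 2 := by
  have l : V4 z u ≤ YY S (zpowers z) := sup_le (le_YY H.nz0) (zpowers_le.2 H.uY)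
  rw [inf_relIndex_right]
  refine (Pgp.relIndex_cent1_le (Z := zpowers z) fun q hq => ?_).trans (by rw [Nat.card_zpowers, H.f.l])
  rw [← commutatorElement_inv]
  exact inv_mem (((mem_YY H.nz0).1 (l hw)).2.2 q hq)

end CF.NC
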