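/-
Two-constrained centralizers in simple groups of two-rank two; the Janko groups.
-/
import Cfsg.Agent.NC.G
import Cfsg.Agent.Loc.HubQ
import Cfsg.Agent.S1240
import Cfsg.Agent.S1776
import Cfsg.Agent.Classical.SL25
set_option autoImplicit false

namespace CF.NC
open Subgroup Cfsg CF.BG CF.Sig
open scoped MatrixGroups

universe u
variable {G : Type u} [Group G] [Finite G]

theorem solv_of_con {F : Type} [Field F] [Fintype F] (c : IsPConstrained 2 G)
    (e : commutator (G ⧸ oddCore G) ≃* SL(2, F)) : Group.IsSolvable G := by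
  by_cases h : 4 ≤ Nat.card F
  · exact (layer_eq_bot_iff.1 (pLayer_eq_bot_iff.1 (isPConstrained_iff_pLayer_eq_bot.1 c)) _
      ⟨Subgroup.Normal.isSubnormal inferInstance, qs_of_mulEquiv
        ⟨⟨Classical.commutator_SL2_eq_top h⟩, Classical.isSimpleGroup_PSL2 h⟩ e.symm⟩).elim
  have : Group.IsSolvable (commutator (G ⧸ oddCore G)) := Classical.isSolvable_of_card_lt_sixty _ (by
    rw [Nat.card_congr e.toEquiv, Classical.card_SL_two']
    have : Nat.card F < 4 := not_le.1 h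
    interval_cases Nat.card F <;> simp) _ rfl
  have : Group.IsSolvable (oddCore G) := Hyp.isSolvable_of_odd GW.odd_oddCore
  have : Group.IsSolvable (G ⧸ oddCore G) := solvable_of_ker_le_range (commutator _).subtype Abelianization.of
    (by rw [range_subtype, Abelianization.ker_of])
  exact solvable_of_ker_le_range (oddCore G).subtype (QuotientGroup.mk' (oddCore G))
    (by rw [range_subtype, QuotientGroup.ker_mk'])

theorem qw_solv [IsSimpleGroup G] (hG : ¬ IsMulCommutative G) (T : Sylow 2 G)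
    (h : IsQuasiDihedral (T : Subgroup G) ∨ IsWreathed (T : Subgroup G))
    (hC : ∀ t ∈ (T : Subgroup G), orderOf t = 2 → (𝐂₁ t ⊓ (T : Subgroup G)).relIndex (T : Subgroup G) ≤ 2 →
      IsPConstrained 2 (𝐂₁ t)) : ∃ t : G, orderOf t = 2 ∧ Group.IsSolvable (𝐂₁ t) := by
  have r := ABGc.pResidual_eq_top_of_perfect (ABGc.commutator_eq_top_of_simple hG)
  obtain ⟨z, hz, l, e, -⟩ := Invol.qw_facts (Transfer.isSylowIn_top T) h r
  obtain ⟨F, _, _, -, ⟨f⟩⟩ := Cfsg.Agent.S1240.result T h (Invol.pResidual_two_eq_top_iff.1 r)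
    (fun a b ha hb => (e a ha).trans (e b hb).symm) z hz
  refine ⟨z, hz, solv_of_con (hC z ?_ hz ?_) f⟩
  · exact (syl_sylow_top T).mem_of_norm (mem_top z) (cent_le_norm _ (mem_cent.2 fun s hs => mem_cent1.1 (l hs)))
      (GW.Iv.piElt hz)
  · rw [inf_relIndex_right, relIndex_eq_one.2 l]; decide

theorem isJ [IsSimpleGroup G] (S : Sylow 2 G) (h : ∃ P : Sylow 2 Spor.J2, Nonempty (S ≃* P)) :
    IsJ2 G ∨ IsJ3 G := by
  obtain ⟨P, h⟩ := h
  exact (Cfsg.Agent.S1776.result S P h).imp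
    (fun ⟨e⟩ => ⟨inferInstance, (Nat.card_congr e.toEquiv).trans Comp.J2.card⟩)
    fun ⟨_, _, _, _, a, b, ⟨e⟩⟩ => ⟨inferInstance, (Nat.card_congr e.toEquiv).trans (Comp.J3.card (Comp.J3.ok a b))⟩

theorem rank2 [IsSimpleGroup G] (hG : ¬ IsMulCommutative G) (T : Sylow 2 G) (r : PRankLE 2 2 G)
    (hC : ∀ t ∈ (T : Subgroup G), orderOf t = 2 → (𝐂₁ t ⊓ (T : Subgroup G)).relIndex (T : Subgroup G) ≤ 2 →
      IsPConstrained 2 (𝐂₁ t)) :
    (∃ (F : Type) (_ : Field F) (_ : Fintype F), Nonempty (G ≃* PSL(2, F))) ∨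
      Nonempty (G ≃* alternatingGroup (Fin 7)) ∨ IsM11 G ∨
      (∃ (F : Type) (_ : Field F) (_ : Fintype F), Fintype.card F = 3 ∧ Nonempty (G ≃* PSL(3, F))) ∨
      (∃ (F : Type) (_ : Field F) (_ : Fintype F), Fintype.card F = 9 ∧ Nonempty (G ≃* PSU 3 F 3)) ∨
      (∃ (F : Type) (_ : Field F) (_ : Fintype F), Fintype.card F = 16 ∧ Nonempty (G ≃* PSU 3 F 4)) ∨
      IsJ2 G ∨ IsJ3 G := by
  have := Fintype.ofFinite (GaloisField 2 4)
  have c : Fintype.card (GaloisField 2 4) = 16 := by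
    rw [← Nat.card_eq_fintype_card, GaloisField.card 2 4 (by decide)]; rfl
  obtain ⟨P⟩ : Nonempty (Sylow 2 (PSU 3 (GaloisField 2 4) 4)) := inferInstance
  rcases Cfsg.Agent.S0516.result hG r T c P with ⟨_, -, ⟨e⟩⟩ | h | h | h
  · exact (GW.gw_sylow hG T e).imp (fun ⟨F, i, j, _, _, k⟩ => ⟨F, i, j, k⟩) .inl
  · obtain ⟨t, ht, s⟩ := qw_solv hG T (.inl h) hC
    exact .inr (.inr ((Loc.qd3 G t ht (ABG.qd_three T h ht s)).elim (fun h => .inr (.inl h))
      fun h => .inl ⟨inferInstance, h⟩))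
  · obtain ⟨t, ht, s⟩ := qw_solv hG T (.inr h) hC
    have := Fintype.ofFinite (GaloisField 3 2)
    have k : Fintype.card (GaloisField 3 2) = 3 ^ 2 := by
      rw [← Nat.card_eq_fintype_card, GaloisField.card 3 2 two_ne_zero]
    obtain ⟨e⟩ := ABG.wr_three T h ht s k
    exact .inr (.inr (.inr (.inr (.inl ⟨_, _, _, k, ON.psu_of_three rfl k ⊥ bot_le (by simp) ht
      (e.trans QuotientGroup.quotientBot.symm)⟩))))
  · exact .inr (.inr (.inr (.inr (.inr (.inl ⟨_, _, _, c, Cfsg.Agent.S0486.result c T P h⟩)))))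

end CF.NC
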