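/-
Sylow two-subgroups of type `G₂(q)` and `Ly`: connected, and the central involution is not constrained.
-/
import Cfsg.Agent.NC.H
import Cfsg.Agent.NC.TL
import Cfsg.Agent.N8.F
set_option autoImplicit false
set_option maxRecDepth 100000
set_option linter.unusedSectionVars false

namespace CF.NC
open Subgroup Cfsg CF.BG CF.Sig CF.GW CF.Ab2 CF.MW CF.W2 CF.Cod CF.N8
open scoped commutatorElement

universe v
variable {G : Type v} [Group G] [Finite G] {S : Subgroup G} {z u g s v : G}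

theorem N0.nc (H : N0 S z u) (c : PLay 2 (𝐂₁ z) = ⊥) (e : g * z = z * g) (hv : g * u * g⁻¹ ∈ S) (hs : s ∈ S) :
    ⁅s, g * u * g⁻¹⁆ * ⁅s, g * u * g⁻¹⁆ ∈ zpowers z := by
  have l : V4 z u ≤ YY S (zpowers z) := sup_le (le_YY H.nz0) (zpowers_le.2 H.uY)
  obtain ⟨Q, h1, h2, h3⟩ := con c (H.hS.of_le (fun s hs => mem_cent1.2 (H.zc s hs)) le_top) H.f.l.piGrp
    (cent_zpowers z).ge H.Ule (le_centMod.1 fun x hx =>
      ⟨H.nz0.norm (H.Ule hx), ((mem_YY H.nz0).1 (l hx)).2.2⟩).2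
  have uQ := h2 (right_mem_V4 z u)
  have nQ : zpowers z ⊴ Q := H.nz0.of_le (zpowers_le.2 (h2 (left_mem_V4 z u))) h1.le
  obtain ⟨n, a, b, f⟩ := h3 u uQ g (mem_cent1.2 e) hv
  have m : g * u * g⁻¹ ∈ YY Q (zpowers z) := f ▸ conj_mem_of_norm (norm_YY nQ b (cent1_le_norm_zp z a))
    ((mem_YY nQ).2 ⟨uQ, H.uu ▸ one_mem _, fun s hs => ((mem_YY H.nz0).1 H.uY).2.2 s (h1.le hs)⟩)
  exact ((mem_YY nQ).1 (mul_mem (conj_mem_of_norm (norm_YY nQ (h1.norm hs) (H.nz0.norm hs)) m) (inv_mem m))).2.1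

section
variable {K : Type*} [Group K] {φ : K →* G} {z u : K} (h : SM φ) (ne : NE φ.range) (f : FP z u)
  (zc : ∀ a, a * z = z * a) (uc : ∀ a, a * u = u * a ∨ a * u = z * u * a)
include h ne f zc uc

theorem n0_of : N0 φ.range (φ z) (φ u) :=
  ⟨h.syl, ne, ⟨(iv_map_iff h.inj).2 f.l, (iv_map_iff h.inj).2 f.r, by rw [← map_mul, f.comm, map_mul], h.inj.ne f.ne⟩,
    ⟨z, rfl⟩, ⟨u, rfl⟩, fun _ ⟨a, e⟩ => e ▸ (Cj.of' (zc a)).comm, fun _ ⟨a, e⟩ => e ▸ (uc a).imp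
      (fun k => (Cj.of' k).comm) fun k => (Cj.of' k).trans (map_mul φ z u)⟩

theorem conn_of (k : ∀ t, t * t = 1 → t * u ≠ u * t →
    ∃ x, x * u = u * x ∧ x * t = t * x ∧ x * x = 1 ∧ x ≠ 1 ∧ x ≠ z) : IsFourConnected φ.range := by
  by_contra c
  have H := n0_of h ne f zc uc
  obtain ⟨_, ⟨t, rfl⟩, tt, e, i⟩ := H.iso c
  obtain ⟨x, x1, x2, x3, x4, x5⟩ := k t (h.inj (by rw [map_mul, tt, map_one])) fun q =>
    H.not_both (Cj.of' q).comm e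
  exact (i _ ⟨x, rfl⟩ (Cj.of' x1).comm (Cj.of' x2).comm (map_sq x3)).elim (map_ne h.inj x4) (h.inj.ne x5)

theorem nc_of {a y : K} (e : Cj φ g z z) (k : Cj φ g u y) (n : cm a y * cm a y ≠ 1) (n' : cm a y * cm a y ≠ z) :
    PLay 2 (𝐂₁ (φ z)) ≠ ⊥ := fun c => by
  have H := n0_of h ne f zc uc
  have := H.nc c e.comm ⟨y, Eq.symm k⟩ ⟨a, rfl⟩
  rw [show _ = φ y from k, ← map_commutatorElement, ← map_mul, H.f.l.mem_zpowers, ← map_one φ, h.inj.eq_iff,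
    h.inj.eq_iff] at this
  exact this.elim n n'

end

theorem gt_fp {p : Par} : FP (GT.z : GT p) GT.u :=
  ⟨.mk' GT.z1 GT.zz, .mk' (by simp [p.w0]) (by simp [← two_mul, p.w2]), (GT.zc _).symm, GT.uz.symm⟩

theorem gt_uc {p : Par} (a : GT p) : a * GT.u = GT.u * a ∨ a * GT.u = GT.z * GT.u * a := by
  obtain ⟨a, b, e, s⟩ := a
  cases e <;> cases s <;> simp [p.ew, add_comm, ← two_mul, p.w2]

theorem gt_conn {p : Par} (he : p.ε = -1) {φ : GT p →* G} (h : SM φ) (ne : NE φ.range) :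
    IsFourConnected φ.range := conn_of h ne gt_fp GT.zc gt_uc fun ⟨a, b, e, s⟩ tt n =>
  ⟨GT.R (2 * a) 0, by simp [p.ew, add_comm], by
    cases e <;> cases s <;> simp [add_comm, he] at tt n ⊢
    exacts [⟨by ring, by linear_combination -2 * tt⟩, (n (by linear_combination -p.w2)).elim,
      ⟨by ring, by linear_combination -2 * tt.2⟩], by simp [he], by simp, by simp⟩

theorem gt_nc {p : Par} (n3 : 3 ≤ p.n) {φ : GT p →* G} (h : SM φ) (ne : NE φ.range)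
    (h2 : ∀ H : Subgroup G, H.index ≠ 2) (hu : Dz φ GT.u GT.z) : PLay 2 (𝐂₁ (φ GT.z)) ≠ ⊥ := by
  obtain ⟨g, e1, e2, -⟩ := toU h hu (one_cls h h2 hu n3) (by simp) (x := GT.c') (by simp) GT.c'_sq
  refine nc_of h ne gt_fp GT.zc gt_uc (a := GT.A (Invol.ze p.n) 0) e1.symm e2.symm ?_ ?_ <;>
    simp [W2.cm, ← two_mul, Invol.two_mul_ze n3, p.v0, p.vw]

theorem L.uc : ∀ a : El TL, a * L.u = L.u * a ∨ a * L.u = L.z * L.u * a := by decide +kernel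

theorem tl_conn {φ : El TL →* G} (h : SM φ) (ne : NE φ.range) : IsFourConnected φ.range :=
  conn_of h ne L.fp0 L.cz L.uc (by decide +kernel)

theorem tl_nc {φ : El TL →* G} (h : SM φ) (ne : NE φ.range) (h2 : ∀ H : Subgroup G, H.index ≠ 2)
    (hu : Dz φ L.u L.z) : PLay 2 (𝐂₁ (φ L.z)) ≠ ⊥ := by
  obtain ⟨g, e⟩ := L.ru h h2 hu
  exact nc_of h ne L.fp0 L.cz L.uc (a := L.c) (L.cj_ψ.1 (L.zc_ψ g)).symm (L.cj_ψ.1 e).symm (by decide +kernel)
    (by decide +kernel)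

end CF.NC
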